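import Cfsg.Agent.H3.DD1
import Cfsg.Agent.H6.Transfer
import Cfsg.Agent.H9.Extra
import Mathlib.GroupTheory.Focal

/-! Strongly closed 2-subgroups: fusion modulo the subgroup, transfer, products. -/

set_option autoImplicit false
set_option linter.unusedSectionVars false
set_option linter.unusedVariables false

namespace Cfsg.Agent.H8.SQ

open Subgroup Cfsg.Agent.FT Cfsg.Agent.L0 Cfsg.Agent.H8 Cfsg.Agent.BS Cfsg.Agent.H3.DD
open scoped commutatorElement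

universe u

local instance : Fact (Nat.Prime 2) := Nat.fact_prime_two

/-- `S` is strongly closed in the Sylow `2`-subgroup `T` -/
structure SCl {G : Type u} [Group G] (T S : Subgroup G) : Prop where
  syl : IsSylowIn 2 T ⊤
  le : S ≤ T
  cl : ∀ x ∈ S, ∀ g : G, g * x * g⁻¹ ∈ T → g * x * g⁻¹ ∈ S

/-- the conjugates of the elements of `S` -/
def cc {G : Type u} [Group G] (S : Subgroup G) : Set G := {x | ∃ s ∈ S, ∃ g : G, g * s * g⁻¹ = x}

variable {G G' : Type u} [Group G] [Finite G] [Group G'] [Finite G'] {T S P Q A B M : Subgroup G} {g x y : G}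

theorem cj_le_syl (hT : IsSylowIn 2 T ⊤) (hP : IsPGroup 2 P) : ∃ g : G, cj g P ≤ T := by
  obtain ⟨Q, hQ, hPQ⟩ := exists_isSylowIn_ge hP (le_top : P ≤ ⊤)
  obtain ⟨k, -, e⟩ := hQ.exists_cj_eq hT
  exact ⟨k, e ▸ cj_mono k hPQ⟩

theorem mem_cc (hx : x ∈ S) : x ∈ cc S := ⟨x, hx, 1, by simp⟩

theorem cc_conj (hx : x ∈ cc S) (g : G) : g * x * g⁻¹ ∈ cc S := by
  obtain ⟨s, hs, k, rfl⟩ := hx
  exact ⟨s, hs, g * k, by group⟩

namespace SCl

variable (h : SCl T S)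
include h

theorem pg : IsPGroup 2 S := h.syl.pgroup.to_le h.le

theorem mem (hx : x ∈ cc S) (hT : x ∈ T) : x ∈ S := by
  obtain ⟨s, hs, k, rfl⟩ := hx
  exact h.cl s hs k hT

theorem norm : T ≤ 𝐍(S) := fun t ht => H9.mem_normalizer_of_conj_mem fun x hx =>
  h.cl x hx t (mul_mem (mul_mem ht (h.le hx)) (inv_mem ht))

theorem sc : SC (cc S) where
  one := mem_cc (one_mem _)
  cj := fun x hx g => cc_conj hx g
  two := by
    rintro _ ⟨s, hs, g, rfl⟩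
    obtain ⟨k, hk⟩ := H9.exists_pow_eq_one_of_mem h.pg hs
    exact ⟨k, by rw [conj_pow, hk]; simp⟩
  mul := fun P hP x hx hxP y hy hyP => by
    obtain ⟨g, hg⟩ := cj_le_syl h.syl hP
    exact ⟨_, mul_mem (h.mem (cc_conj hx g) (hg (conj_mem_cj g hxP))) (h.mem (cc_conj hy g) (hg (conj_mem_cj g hyP))),
      g⁻¹, by group⟩

theorem map {f : G →* G'} (hf : Function.Surjective f) : SCl (T.map f) (S.map f) where
  syl := by simpa only [map_top_of_surjective f hf] using h.syl.map f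
  le := map_mono h.le
  cl := by
    rintro _ ⟨s, hs, rfl⟩ g h1
    obtain ⟨g, rfl⟩ := hf g
    have h2 : g * s * g⁻¹ ∈ (T.map f).comap f := by simpa using h1
    obtain ⟨R, hR, h3⟩ := exists_isSylowIn_ge (H9.isPGroup_zpowers (h.sc.two _ (cc_conj (mem_cc hs) g))) (zpowers_le.2 h2)
    obtain ⟨k, hk, e⟩ := hR.exists_cj_eq (h.syl.of_le (le_comap_map f T) le_top)
    have h4 := h.mem (cc_conj (cc_conj (mem_cc hs) g) k) (e ▸ conj_mem_cj k (h3 (mem_zpowers _)))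
    obtain ⟨t, ht, e'⟩ := mem_comap.1 hk
    refine ⟨_, conj_mem_of_le_normalizer' h.norm ht h4, ?_⟩
    simp only [map_mul, map_inv, e']
    group

theorem sub {X : Subgroup G} [X.Normal] (hS : S ≤ X) : SCl (T.subgroupOf X) (S.subgroupOf X) where
  syl := by
    have h1 := h.syl.inf_of_le_normalizer (N := X) le_normalizer_of_normal
    rw [top_inf_eq] at h1
    have := isSylowIn_top h1.toSylow
    rwa [IsSylowIn.coe_toSylow, inf_subgroupOf_right] at this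
  le := fun x hx => h.le hx
  cl := fun x hx g h1 => h.cl x hx g h1

/-- Frattini argument -/
theorem frattini {X : Subgroup G} [X.Normal] (hS : S ≤ X) (g : G) : ∃ k ∈ X, k * g ∈ 𝐍(S) := by
  have h1 := h.syl.inf_of_le_normalizer (N := X) le_normalizer_of_normal
  rw [top_inf_eq] at h1
  obtain ⟨k, hk, h2⟩ := h1.frattini (g := g) (le_normalizer_of_normal (H := X) (K := ⊤) trivial)
  exact ⟨k, hk, H9.mem_normalizer_of_conj_mem fun x hx =>
    h.cl x hx _ (H9.conj_mem_of_mem_normalizer h2 ⟨h.le hx, hS hx⟩).1⟩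

theorem sub_gen : normalClosure ((S.subgroupOf (normalClosure (S : Set G)) : Subgroup _) : Set (normalClosure (S : Set G))) = ⊤ := by
  refine top_le_iff.1 fun ⟨x, hx⟩ _ => ?_
  induction hx using closure_induction with
  | mem x hx =>
    obtain ⟨s, hs, e⟩ := Group.mem_conjugatesOfSet_iff.1 hx
    obtain ⟨g, rfl⟩ := isConj_iff.1 e
    obtain ⟨k, hk, h1⟩ := h.frattini le_normalClosure g
    have h2 := H9.conj_mem_of_mem_normalizer h1 hs
    have h3 := (normalClosure_normal (s := ((S.subgroupOf (normalClosure (S : Set G)) : Subgroup _) :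
      Set (normalClosure (S : Set G))))).conj_mem ⟨_, le_normalClosure h2⟩ (subset_normalClosure h2) ⟨k, hk⟩⁻¹
    convert h3 using 1
    apply Subtype.ext
    simp only [coe_mul, coe_inv]
    group
  | one => exact one_mem _
  | mul x y hx hy h1 h2 => exact mul_mem (h1 trivial) (h2 trivial)
  | inv x hx h1 => exact inv_mem (h1 trivial)

/-- transfer -/
theorem idx (hg : normalClosure (S : Set G) = ⊤) (hM : S ≤ M)
    (hf : ∀ x ∈ T, ∀ g : G, g * x * g⁻¹ ∈ T → x * (g * x * g⁻¹)⁻¹ ∈ M) : T ≤ M := by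
  intro t ht
  have h1 : (S ⊔ commutator G).Normal := Subgroup.Normal.of_commutator_le _ le_sup_right
  have h2 : t ∈ S ⊔ commutator G := (normalClosure_le_normal (le_sup_left : S ≤ S ⊔ commutator G)) (hg ▸ mem_top t)
  obtain ⟨s, hs, c, hc, rfl⟩ := (mem_sup_of_le_normalizer' le_normalizer_of_normal).1 h2
  refine mul_mem (hM hs) ?_
  obtain ⟨R, rfl⟩ := h.syl.exists_sylow_top
  have h3 : c ∈ commutator G ⊓ (R : Subgroup G) := ⟨hc, (mul_mem_cancel_left (h.le hs)).1 ht⟩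
  rw [commutator_inf_eq_focalSubgroup, focalSubgroup_def] at h3
  refine (closure_le M).2 ?_ h3
  rintro _ ⟨h4, x, hx, u, rfl⟩
  have e : ⁅x, u⁆ = x * (u * x * u⁻¹)⁻¹ := by rw [commutatorElement_def]; group
  rw [e] at h4 ⊢
  exact hf x hx u (inv_mem_iff.1 ((mul_mem_cancel_left hx).1 h4))

end SCl

/-- Alperin's induction -/
theorem alp {α : Sort*} (hT : IsSylowIn 2 T ⊤) (f : G → α)
    (H : ∀ Q ≤ T, IsSylowIn 2 (T ⊓ 𝐍(Q)) 𝐍(Q) →
      (∀ P ≤ T, #|Q| < #|P| → ∀ g, cj g P ≤ T → ∀ x ∈ P, f (g * x * g⁻¹) = f x) →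
      ∀ c ∈ 𝐍(Q), ∀ x ∈ Q, f (c * x * c⁻¹) = f x) (hx : x ∈ T) (hg : g * x * g⁻¹ ∈ T) : f (g * x * g⁻¹) = f x := by
  suffices key : ∀ n, ∀ P ≤ T, Nat.card G - #|P| = n → ∀ g, cj g P ≤ T → ∀ x ∈ P, f (g * x * g⁻¹) = f x from
    key _ (zpowers x) (zpowers_le.2 hx) rfl g (by rw [cj, MonoidHom.map_zpowers]; exact zpowers_le.2 hg) x (mem_zpowers x)
  intro n
  induction n using Nat.strong_induction_on with
  | _ n ih =>
  clear hx hg
  intro P hP hn g hg x hx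
  have ih' : ∀ Q : Subgroup G, #|Q| = #|P| → ∀ P' ≤ T, #|Q| < #|P'| → ∀ g, cj g P' ≤ T → ∀ x ∈ P', f (g * x * g⁻¹) = f x :=
    fun Q e P' h1 h2 => ih _ (by have := card_le_card_group P'; omega) P' h1 rfl
  by_cases hPT : P = T
  · exact H P hP (by rw [hPT, inf_eq_left.2 le_normalizer]; exact hT.of_le le_normalizer le_top) (ih' P rfl) g
      (mem_normalizer_of_cj_le (hg.trans hPT.ge)) x hx
  have lt : ∀ Q ≤ T, #|Q| = #|P| → #|Q| < #|(T ⊓ 𝐍(Q) : Subgroup G)| := fun Q h1 e =>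
    card_lt_of_lt (lt_inf_normalizer_of_pgroup hT.pgroup (lt_of_le_of_ne h1 fun e' =>
      hPT (eq_of_le_of_card_ge hP (by rw [← e, e']))))
  obtain ⟨R, hR, h1⟩ := exists_isSylowIn_ge (hT.pgroup.to_le (inf_le_left : T ⊓ 𝐍(P) ≤ T)) inf_le_right
  obtain ⟨a, ha⟩ := cj_le_syl hT hR.pgroup
  obtain ⟨R', hR', h2⟩ := exists_isSylowIn_ge (hT.pgroup.to_le (inf_le_left : T ⊓ 𝐍(cj g P) ≤ T)) inf_le_right
  obtain ⟨k, hk, e⟩ := hR'.exists_cj_eq (by rw [← cj_normalizer]; exact hR.cj g)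
  have h3 : P ≤ R := (le_inf hP le_normalizer).trans h1
  have h4 : IsSylowIn 2 (cj a R) 𝐍(cj a P) := by rw [← cj_normalizer]; exact hR.cj a
  have h5 : T ⊓ 𝐍(cj a P) = cj a R := h4.max _ inf_le_right (hT.pgroup.to_le inf_le_left) (le_inf ha h4.le)
  have h6 := ih' _ (card_cj g P) _ inf_le_left (lt _ hg (card_cj g P)) (a * g⁻¹ * k)
    (by rw [cj_mul, cj_mul]; refine (cj_mono a (cj_mono _ (cj_mono _ h2))).trans ?_; rwa [e, cj_inv_cj])
    (g * x * g⁻¹) ⟨hg (conj_mem_cj g hx), le_normalizer (conj_mem_cj g hx)⟩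
  have h7 := H (cj a P) ((cj_mono a h3).trans ha) (h5 ▸ h4) (ih' _ (card_cj a P)) (a * g⁻¹ * k * g * a⁻¹)
    (cj_eq_self_iff.1 (by simp only [cj_mul]; rw [cj_inv_cj, cj_eq_self hk, cj_inv_cj])) _ (conj_mem_cj a hx)
  have h8 := ih' P rfl _ inf_le_left (lt P hP rfl) a ((cj_mono a h1).trans ha) x ⟨hP hx, le_normalizer hx⟩
  rw [← h6, ← h8, ← h7]
  congr 1
  group

/-- the elements normalizing `Q` and centralizing it modulo `S` -/
def Y0 (S Q : Subgroup G) : Subgroup G where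
  carrier := {y | y ∈ 𝐍(Q) ∧ ∀ x ∈ Q, y * x * y⁻¹ * x⁻¹ ∈ S}
  one_mem' := ⟨one_mem _, fun x _ => by simpa using one_mem S⟩
  mul_mem' := fun {a b} ha hb => ⟨mul_mem ha.1 hb.1, fun x hx => by
    have := mul_mem (ha.2 _ (H9.conj_mem_of_mem_normalizer hb.1 hx)) (hb.2 x hx)
    convert this using 1
    group⟩
  inv_mem' := fun {a} ha => ⟨inv_mem ha.1, fun x hx => by
    have := inv_mem (ha.2 _ (H9.conj_mem_of_mem_normalizer' ha.1 hx))
    convert this using 1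
    group⟩

theorem SCl.Y0_norm (h : SCl T S) (hQ : Q ≤ T) : 𝐍(Q) ≤ 𝐍(Y0 S Q) := fun c hc =>
  H9.mem_normalizer_of_conj_mem fun y hy => ⟨mul_mem (mul_mem hc hy.1) (inv_mem hc), fun x hx => by
    have h1 := H9.conj_mem_of_mem_normalizer' hc hx
    have := h.cl _ (hy.2 _ h1) c (hQ (H9.conj_mem_of_mem_normalizer hc
      (mul_mem (H9.conj_mem_of_mem_normalizer hy.1 h1) (inv_mem h1))))
    convert this using 1
    group⟩

theorem SCl.Y0_syl (h : SCl T S) (hQ : Q ≤ T) (h1 : IsSylowIn 2 (T ⊓ 𝐍(Q)) 𝐍(Q)) :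
    IsSylowIn 2 (T ⊓ 𝐍(Q) ⊓ Y0 S Q) (Y0 S Q) := by
  have := h1.inf_of_le_normalizer (h.Y0_norm hQ)
  rwa [inf_eq_right.2 (show Y0 S Q ≤ 𝐍(Q) from fun y hy => hy.1)] at this

theorem SCl.fus {α : Sort*} (h : SCl T S) (f : G → α)
    (h1 : ∀ n ∈ 𝐍(S), ∀ x ∈ T, n * x * n⁻¹ ∈ T → f (n * x * n⁻¹) = f x)
    (h2 : ∀ Q ≤ T, IsSylowIn 2 (T ⊓ 𝐍(Q)) 𝐍(Q) → ∀ y ∈ Y0 S Q, ∀ x ∈ Q, f (y * x * y⁻¹) = f x)
    (hx : x ∈ T) (hg : g * x * g⁻¹ ∈ T) : f (g * x * g⁻¹) = f x := by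
  refine alp h.syl f (fun Q hQ hs ih c hc x hx => ?_) hx hg
  obtain ⟨k, hk, hn⟩ := (h.Y0_syl hQ hs).frattini (h.Y0_norm hQ hc)
  have a1 : k * c ∈ 𝐍(Q) := mul_mem hk.1 hc
  have a2 := h2 Q hQ hs _ (inv_mem hk) _ (H9.conj_mem_of_mem_normalizer a1 hx)
  rw [show c * x * c⁻¹ = k⁻¹ * (k * c * x * (k * c)⁻¹) * k⁻¹⁻¹ by group, a2]
  by_cases a3 : S ⊓ 𝐍(Q) ≤ Q
  · have a4 : S ≤ Q := by
      by_contra a4
      have a8 : Q < Q ⊔ S := lt_of_le_of_ne le_sup_left fun e => a4 (le_sup_right.trans e.ge)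
      obtain ⟨w, ⟨a5, a6⟩, a7⟩ := SetLike.exists_of_lt (lt_inf_normalizer_of_pgroup
        (h.syl.pgroup.to_le (sup_le hQ h.le)) a8)
      obtain ⟨q, hq, s, hs, rfl⟩ := (mem_sup_of_le_normalizer' (hQ.trans h.norm)).1 a5
      exact a7 (mul_mem hq (a3 ⟨hs, (mul_mem_cancel_left (le_normalizer hq)).1 a6⟩))
    exact h1 _ (H9.mem_normalizer_of_conj_mem fun s hs => h.cl s hs _ (hQ (H9.conj_mem_of_mem_normalizer a1 (a4 hs))))
      x (hQ hx) (hQ (H9.conj_mem_of_mem_normalizer a1 hx))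
  · have a4 : S ⊓ 𝐍(Q) ≤ T ⊓ 𝐍(Q) ⊓ Y0 S Q := fun s hs => ⟨⟨h.le hs.1, hs.2⟩, hs.2, fun x hx => by
      have := mul_mem hs.1 (conj_mem_of_le_normalizer h.norm (hQ hx) (inv_mem hs.1))
      rwa [← mul_assoc, ← mul_assoc] at this⟩
    refine ih (Q ⊔ S ⊓ 𝐍(Q)) (sup_le hQ (inf_le_left.trans h.le))
      (card_lt_of_lt (lt_of_le_of_ne le_sup_left fun e => a3 (le_sup_right.trans e.ge))) _ ?_ x (mem_sup_left hx)
    rw [cj_sup, cj_eq_self a1]
    exact sup_le hQ ((cj_le_of_mem_normalizer hn a4).trans (inf_le_left.trans inf_le_left))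

/-- fusion modulo `S` is controlled by `N(S)` -/
theorem SCl.fus_mod {α : Sort*} (h : SCl T S) (f : G → α)
    (h1 : ∀ n ∈ 𝐍(S), ∀ x ∈ T, n * x * n⁻¹ ∈ T → f (n * x * n⁻¹) = f x)
    (h2 : ∀ s ∈ S, ∀ x ∈ T, f (s * x) = f x) (hx : x ∈ T) (hg : g * x * g⁻¹ ∈ T) : f (g * x * g⁻¹) = f x :=
  h.fus f h1 (fun Q hQ _ y hy x hx => by simpa using h2 _ (hy.2 x hx) x (hQ hx)) hx hg

theorem gen_map {s : Set G} (hg : normalClosure s = ⊤) {f : G →* G'} (hf : Function.Surjective f) {s' : Set G'}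
    (h : ∀ x ∈ s, f x ∈ s') : normalClosure s' = ⊤ := by
  refine top_le_iff.1 fun y _ => ?_
  obtain ⟨x, rfl⟩ := hf y
  exact normalClosure_le_normal (N := (normalClosure s').comap f) (fun x hx => subset_normalClosure (h x hx))
    (hg ▸ mem_top x)

theorem card_quo_lt (N : Subgroup G) [N.Normal] (h1 : N ≠ ⊥) : Nat.card (G ⧸ N) < Nat.card G := by
  rw [card_eq_card_quotient_mul_card_subgroup N]
  exact lt_mul_of_one_lt_right Nat.card_pos (one_lt_card_iff_ne_bot N |>.2 h1)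

theorem normal_zpowers (h : y ∈ center G) : (zpowers y).Normal :=
  ⟨fun n hn g => by rwa [mem_center_iff.1 (zpowers_le.2 h hn) g, mul_inv_cancel_right]⟩

theorem core_two (hP : IsPGroup 2 P) (h1 : x ∈ P) (h2 : x ∈ pPrimeCore 2 G) : x = 1 :=
  mem_bot.1 (eq_bot_of_isPGroup_of_not_dvd (hP.to_le (inf_le_left : P ⊓ pPrimeCore 2 G ≤ P))
    (H8.not_dvd_card_of_le inf_le_right not_dvd_card_pPrimeCore) ▸ (⟨h1, h2⟩ : x ∈ P ⊓ pPrimeCore 2 G))

/-- a Sylow subgroup that is the product of two strongly closed subgroups -/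
theorem pfk (hA : SCl T A) (hB : SCl T B) (hc : ∀ a ∈ A, ∀ b ∈ B, a * b = b * a) (hd : ∀ a ∈ A, a ∈ B → a = 1)
    (hT : ∀ t ∈ T, ∃ a ∈ A, ∃ b ∈ B, a * b = t) (hg : normalClosure {a | a ∈ A ∧ a * a = 1} = ⊤) : B = ⊥ := by
  obtain ⟨n, hn⟩ : ∃ n, Nat.card G = n := ⟨_, rfl⟩
  induction n using Nat.strong_induction_on generalizing G with
  | _ n ih =>
  have key : ∀ (N : Subgroup G) [N.Normal], N ≠ ⊥ → (∀ x ∈ N, x ∈ T → x ∈ B) → B ≤ N := fun N _ h1 h2 => by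
    have hf := QuotientGroup.mk'_surjective N
    have := ih _ (hn ▸ card_quo_lt N h1) (hA.map hf) (hB.map hf)
      (by rintro _ ⟨a, ha, rfl⟩ _ ⟨b, hb, rfl⟩; rw [← map_mul, hc a ha b hb, map_mul])
      (by
        rintro _ ⟨a, ha, rfl⟩ ⟨b, hb, e⟩
        have h3 := h2 _ (QuotientGroup.eq.1 e) (mul_mem (inv_mem (hB.le hb)) (hA.le ha))
        rw [hd a ha ((mul_mem_cancel_left (inv_mem hb)).1 h3), map_one])
      (by
        rintro _ ⟨t, ht, rfl⟩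
        obtain ⟨a, ha, b, hb, rfl⟩ := hT t ht
        exact ⟨_, ⟨a, ha, rfl⟩, _, ⟨b, hb, rfl⟩, (map_mul _ _ _).symm⟩)
      (gen_map hg hf fun x hx => ⟨⟨x, hx.1, rfl⟩, by rw [← map_mul, hx.2, map_one]⟩) rfl
    rwa [Subgroup.map_eq_bot_iff, QuotientGroup.ker_mk'] at this
  by_contra h0
  by_cases hO : pPrimeCore 2 G = ⊥
  swap
  · exact h0 (eq_bot_iff.2 fun b hb => core_two hB.pg hb
      (key _ hO (fun x h1 h2 => core_two hA.syl.pgroup h2 h1 ▸ one_mem _) hb))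
  obtain ⟨y, hy, y1, y2⟩ := H9.exists_involution_of_ne_bot hB.pg h0
  have pf : PF (cc A) (cc B) := ⟨hA.sc, hB.sc, fun P hP x hx hxP y hy hyP => by
      obtain ⟨g, hg⟩ := cj_le_syl hA.syl hP
      have := hc _ (hA.mem (cc_conj hx g) (hg (conj_mem_cj g hxP))) _ (hB.mem (cc_conj hy g) (hg (conj_mem_cj g hyP)))
      exact (MulAut.conj g).injective (by simpa [mul_assoc] using this), by
      rintro _ ⟨a, ha, g, rfl⟩ h1
      have h2 := cc_conj h1 g⁻¹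
      rw [show g⁻¹ * (g * a * g⁻¹) * g⁻¹⁻¹ = a by group] at h2
      simp [hd a ha (hB.mem h2 (hA.le ha))]⟩
  have hz : y ∈ center G := by
    have h1 : closure (Group.conjugatesOfSet {a | a ∈ A ∧ a * a = 1}) ≤ 𝐂[y] := (closure_le _).2 fun x hx => by
      obtain ⟨a, ha, e⟩ := Group.mem_conjugatesOfSet_iff.1 hx
      obtain ⟨g, rfl⟩ := isConj_iff.1 e
      by_cases a1 : a = 1
      · simp [a1]
      exact mem_centralizer_singleton_iff.2 (commutatorElement_eq_one_iff_mul_comm.1 (mem_bot.1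
        (hO ▸ pf.main _ (cc_conj (mem_cc ha.1) g) y (mem_cc hy) (Invo.conj ⟨ha.2, a1⟩ g) ⟨y2, y1⟩)))
    exact mem_center_iff.2 fun g => mem_centralizer_singleton_iff.1 (h1 (show g ∈ normalClosure _ from hg ▸ mem_top g))
  have := normal_zpowers hz
  have h1 := key (zpowers y) (zpowers_ne_bot.2 y1) fun x hx _ => zpowers_le.2 hy hx
  refine y1 (hd y (hA.idx (top_le_iff.1 (hg ▸ normalClosure_mono fun x hx => hx.1)) le_rfl (fun x hx g h2 => ?_) (hB.le hy)) hy)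
  obtain ⟨a, ha, b, hb, rfl⟩ := hT x hx
  have e : g * (a * b) * g⁻¹ = g * a * g⁻¹ * b := by
    rw [mul_assoc (g * a), mem_center_iff.1 (zpowers_le.2 hz (h1 hb)) g⁻¹]; group
  rw [e] at h2 ⊢
  have h3 := hA.cl a ha g ((mul_mem_cancel_right (hB.le hb)).1 h2)
  simpa [mul_assoc] using mul_mem ha (inv_mem h3)

end Cfsg.Agent.H8.SQ
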