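import Cfsg.Agent.H8.SQ1
import Cfsg.Agent.H8.Gold1
import Cfsg.Agent.H5.RankOne

/-! A strongly closed 2-subgroup with one involution is Sylow in its normal closure. -/

set_option autoImplicit false
set_option linter.unusedSectionVars false
set_option linter.unusedVariables false

namespace Cfsg.Agent.H8.SQ

open Subgroup Cfsg.Agent.FT Cfsg.Agent.L0 Cfsg.Agent.H8 Cfsg.Agent.BS Cfsg.Agent.H3.DD
open scoped commutatorElement

universe u

local instance : Fact (Nat.Prime 2) := Nat.fact_prime_two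

variable {G : Type u} [Group G] [Finite G] {T S P Q A L : Subgroup G} {g n x y z : G}

theorem conj_cent_iff (hn : n ∈ 𝐍(A)) : n * x * n⁻¹ ∈ 𝐂(A) ↔ x ∈ 𝐂(A) :=
  (mem_normalizer_iff.1 (le_normalizer_centralizer (le_refl 𝐍(A)) hn) x).symm

theorem SCl.v4c (h : SCl T A) (hg : normalClosure (A : Set G) = ⊤) (h4 : #|A| ≤ 4) (he : ∀ a ∈ A, a * a = 1) :
    T ≤ 𝐂(A) := by
  by_cases h0 : A = ⊥
  · rw [h0]; exact fun t _ x hx => by simp [mem_bot.1 hx]
  obtain ⟨a, ha, h1, h2⟩ := exists_central_orderOf h.syl.pgroup ⟨h.le, h.norm⟩ h0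
  have ia := Invo.of_orderOf h1
  have hA : A ≤ 𝐂(A) := fun x hx y hy => by
    have e : ∀ u ∈ A, u⁻¹ = u := fun u hu => inv_eq_of_mul_eq_one_right (he u hu)
    rw [← e _ (mul_mem hy hx), mul_inv_rev, e x hx, e y hy]
  have ca : ∀ t ∈ T, t * a * t⁻¹ = a := fun t ht => by
    rw [mem_centralizer_singleton_iff.1 (h2 ht), mul_inv_cancel_right]
  have key : ∀ t ∈ T, t ∉ 𝐂(A) → ∀ s ∈ A, s ≠ 1 → s ≠ a → t * s * t⁻¹ = s * a := fun t ht h3 s hs s1 s2 => by
    have four := fun y (hy : y ∈ A) => H9.mem_four_of_card_le h4 hs ha s1 ia.2 s2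
      (fun e => s2 (by rw [eq_inv_of_mul_eq_one_left e, ia.inv_eq])) hy
    rcases four _ (conj_mem_of_le_normalizer h.norm ht hs) with e | e | e | e
    · exact absurd (conj_eq_one_iff.1 e) s1
    · refine absurd (fun y hy => ?_) h3
      have e' : ∀ u, t * u * t⁻¹ = u → u * t = t * u := fun u e => by rw [← mul_inv_eq_iff_eq_mul.1 e]
      rcases four y hy with rfl | rfl | rfl | rfl
      · simp
      · exact e' _ e
      · exact e' _ (ca t ht)
      · exact e' _ (by rw [← conj_mul, e, ca t ht])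
    · exact absurd ((MulAut.conj t).injective (by simpa using e.trans (ca t ht).symm)) s2
    · exact e
  refine h.idx hg hA fun x hx g hy => ?_
  have h5 := h.fus_mod (fun x => x ∈ 𝐂(A)) (fun n hn x _ _ => propext (conj_cent_iff hn))
    (fun s hs x _ => propext (mul_mem_cancel_left (hA hs))) hx hy
  generalize g * x * g⁻¹ = y at hy h5
  by_cases h6 : x ∈ 𝐂(A)
  · exact mul_mem h6 (inv_mem (h5 ▸ h6))
  intro s hs
  apply Eq.symm
  rw [← mul_inv_eq_iff_eq_mul, show x * y⁻¹ * s * (x * y⁻¹)⁻¹ = x * (y⁻¹ * s * y⁻¹⁻¹) * x⁻¹ by group]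
  by_cases s1 : s = 1
  · simp [s1]
  by_cases s2 : s = a
  · rw [s2, ca _ (inv_mem hy), ca x hx]
  rw [key _ (inv_mem hy) (fun e => h6 (h5 ▸ inv_mem_iff.1 e)) s hs s1 s2, ← conj_mul, key x hx h6 s hs s1 s2, ca x hx,
    ia.mul_mul']

theorem Y0_le : Y0 S Q ≤ 𝐍((Q ⊓ S : Subgroup G)) := fun y hy => H9.mem_normalizer_of_conj_mem fun x hx =>
  ⟨H9.conj_mem_of_mem_normalizer hy.1 hx.1, by simpa using mul_mem (hy.2 x hx.1) hx.2⟩

theorem Y0_odd (hQ : IsPGroup 2 Q) (hc : IsCyclic (Q ⊓ S : Subgroup G)) (hy : y ∈ Y0 S Q) (ho : Odd (orderOf y)) :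
    y ∈ 𝐂(Q) := fun x hx => by
  have h1 := H5.mem_centralizer_of_odd_of_isCyclic (hQ.to_le inf_le_left) hc (Y0_le hy) ho
  obtain ⟨d, hd, e⟩ : ∃ d ∈ Q ⊓ S, y * x * y⁻¹ = d * x :=
    ⟨_, ⟨mul_mem (H9.conj_mem_of_mem_normalizer hy.1 hx) (Q.inv_mem hx), hy.2 x hx⟩, by group⟩
  have h2 : ∀ k : ℕ, y ^ k * x * (y ^ k)⁻¹ = d ^ k * x := fun k => by
    induction k with
    | zero => simp
    | succ k ih =>
      calc _ = y * (y ^ k * x * (y ^ k)⁻¹) * y⁻¹ := by group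
        _ = y * d ^ k * y⁻¹ * (y * x * y⁻¹) := by rw [ih]; group
        _ = _ := by rw [e, ← h1 _ (pow_mem hd k)]; group
  have h3 := h2 (orderOf y)
  rw [pow_orderOf_eq_one, one_mul, inv_one, mul_one, right_eq_mul] at h3
  obtain ⟨k, hk⟩ := H9.exists_pow_eq_one_of_mem hQ hd.1
  have h4 : d = 1 := orderOf_eq_one_iff.1 (Nat.Coprime.eq_one_of_dvd
    (Nat.Coprime.coprime_dvd_left (orderOf_dvd_of_pow_eq_one hk) ((Nat.coprime_two_left.2 ho).pow_left k))
    (orderOf_dvd_of_pow_eq_one h3))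
  rw [h4, one_mul] at e
  exact (mul_inv_eq_iff_eq_mul.1 e).symm

theorem cen_mul (hL : L ≤ 𝐍(Q)) (h : ∀ g ∈ L, Odd (orderOf g) → g ∈ 𝐂(Q)) (hP : IsSylowIn 2 P L) (hn : n ∈ L) :
    ∃ c ∈ 𝐂(Q), ∃ s ∈ P, c * s = n := by
  rw [← mem_sup_of_le_normalizer (le_normalizer_centralizer (hP.le.trans hL))]
  refine le_of_forall_isSylowIn_le (fun q hq _ => ?_) hn
  by_cases hqp : q = 2
  · subst hqp
    exact ⟨P, hP, le_sup_right⟩
  · obtain ⟨R, hR⟩ := exists_isSylowIn q L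
    refine ⟨R, hR, le_trans (fun t ht => h t (hR.le ht) ?_) le_sup_left⟩
    have : Fact q.Prime := ⟨hq⟩
    have := hR.pgroup.orderOf_coprime ((Nat.coprime_primes hq Nat.prime_two).mpr hqp) ⟨t, ht⟩
    rw [Subgroup.orderOf_mk] at this
    exact Nat.coprime_two_right.1 this

/-- at most one involution -/
def U1 (S : Subgroup G) : Prop := ∀ x ∈ S, ∀ y ∈ S, Invo x → Invo y → x = y

theorem U1.gens (h : U1 S) (hP : IsPGroup 2 P) (hle : P ≤ S) (hc : ¬ IsCyclic P) :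
    ∃ (m : ℕ) (a b : G), a ∈ P ∧ b ∈ P ∧ orderOf a = 2 ^ (m + 2) ∧ b ∉ zpowers a ∧
      b ^ 2 = a ^ 2 ^ (m + 1) ∧ b * a * b⁻¹ = a⁻¹ ∧ ∀ x ∈ P, ∃ i : ℤ, x = a ^ i ∨ x = a ^ i * b :=
  H9.exists_quaternion_gens hP hc fun x hx y hy h1 h2 => h x (hle hx) y (hle hy) (.of_orderOf h1) (.of_orderOf h2)

theorem U1.cen (h : U1 S) (hS : IsPGroup 2 S) (hle : P ≤ S) (hc : ¬ IsCyclic P) (hx : x ∈ S) (h1 : x ∈ 𝐂(P)) :
    x * x = 1 := by
  have h2 : P ⊔ zpowers x ≤ S := sup_le hle (zpowers_le.2 hx)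
  obtain ⟨m, a, b, ha, hb, o, -, -, e, gen⟩ := h.gens (hS.to_le h2) h2 fun hc' =>
    hc (isCyclic_of_injective (inclusion (le_sup_left : P ≤ P ⊔ zpowers x)) (inclusion_injective _))
  have h3 : P ⊔ zpowers x ≤ 𝐂[x] := sup_le (le_centralizer_singleton_iff.2 h1)
    (zpowers_le.2 (mem_centralizer_singleton_iff.2 rfl))
  have ca := mem_centralizer_singleton_iff.1 (h3 ha)
  have cb := mem_centralizer_singleton_iff.1 (h3 hb)
  obtain ⟨i, rfl | rfl⟩ := gen x (mem_sup_right (mem_zpowers x))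
  · have := H4.conj_zpow_eq_of_inverts e i
    rw [cb, mul_inv_cancel_right, zpow_neg] at this
    exact mul_eq_one_iff_eq_inv.2 this
  · have h4 : a * b = b * a := by
      rw [← mul_assoc, ← (Commute.refl a).zpow_left i, mul_assoc, mul_assoc] at ca
      exact mul_left_cancel ca
    rw [← h4, mul_inv_cancel_right] at e
    have := orderOf_dvd_of_pow_eq_one (show a ^ 2 = 1 by rw [pow_two]; exact mul_eq_one_iff_eq_inv.2 e)
    rw [o] at this
    exact absurd (Nat.le_of_dvd two_pos this) (by rw [pow_add]; have := Nat.one_le_two_pow (n := m); omega)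

theorem SCl.quat (h : SCl T S) (hg : normalClosure (S : Set G) = ⊤) (hU : U1 S) (hc : ¬ IsCyclic S)
    (hz : z ∈ S) (iz : Invo z) (cz : z ∈ center G) : T ≤ S := by
  obtain ⟨m, a, b, ha, hb, o, e0, e1, e2, gen⟩ := hU.gens h.pg le_rfl hc
  have := normal_zpowers cz
  have hf := QuotientGroup.mk'_surjective (zpowers z)
  have zc : zpowers z ≤ 𝐂(S) := (zpowers_le.2 cz).trans (center_le_centralizer _)
  have two : ∀ x ∈ S, x * x = 1 → x ∈ zpowers z := fun x hx e => iz.mem_zpowers_iff.2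
    (or_iff_not_imp_left.2 fun e' => hU x hx z hz ⟨e, e'⟩ iz)
  have e3 : a ^ 2 ^ (m + 1) = z := hU _ (pow_mem ha _) z hz (.of_orderOf (by
    rw [orderOf_pow_of_dvd (by positivity) (by rw [o]; exact pow_dvd_pow 2 (by omega)), o,
      pow_succ 2 (m + 1), Nat.mul_div_cancel_left _ (by positivity)])) iz
  have e4 : ∀ i : ℤ, a ^ i * b * (a ^ i * b) = z := fun i => by
    calc _ = a ^ i * (b * a ^ i * b⁻¹) * b ^ 2 := by rw [pow_two]; group
      _ = _ := by rw [H4.conj_zpow_eq_of_inverts e2 i, e1, e3]; group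
  have q1 : ∀ x, x * x ∈ zpowers z → QuotientGroup.mk' (zpowers z) x * QuotientGroup.mk' (zpowers z) x = 1 := fun x e => by
    rw [← map_mul]; exact (QuotientGroup.eq_one_iff _).2 e
  have hT : ∀ t ∈ T, ∃ s ∈ S, ∃ c ∈ T ⊓ 𝐂(S), s * c = t := by
    rcases m with _ | m
    · have e5 : a * a = z := by rw [← e3]; simp [pow_two]
      have qa := q1 a (e5 ▸ mem_zpowers z)
      have h1 := (h.map hf).v4c (gen_map hg hf fun x hx => ⟨x, hx, rfl⟩) ((H9.card_le_of_subset (Set.toFinite _) (by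
        rintro _ ⟨x, hx, rfl⟩
        obtain ⟨i, rfl | rfl⟩ := gen x hx <;> obtain ⟨k, rfl | rfl⟩ := Int.even_or_odd' i <;>
          simp only [map_mul, map_zpow, zpow_add_one, zpow_mul, zpow_two, qa, one_zpow, one_mul] <;> simp)).trans
          (H9.ncard_le_four 1 (QuotientGroup.mk' _ a) (QuotientGroup.mk' _ b) (QuotientGroup.mk' _ a * QuotientGroup.mk' _ b))) (by
        rintro _ ⟨x, hx, rfl⟩
        obtain ⟨i, rfl | rfl⟩ := gen x hx
        · rw [map_zpow, ← (Commute.refl _).mul_zpow, qa, one_zpow]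
        · exact q1 _ (e4 i ▸ mem_zpowers z))
      intro t ht
      have h2 : ∀ x ∈ S, t * x * t⁻¹ = x ∨ t * x * t⁻¹ = z * x := fun x hx => by
        have h3 := h1 ⟨t, ht, rfl⟩ _ ⟨x, hx, rfl⟩
        rw [← map_mul, ← map_mul] at h3
        have h4 := this.conj_mem _ (QuotientGroup.eq.1 h3) (x * t)
        rcases iz.mem_zpowers_iff.1 h4 with e | e
        · left; calc _ = x * t * ((x * t)⁻¹ * (t * x)) * (x * t)⁻¹ * x := by group
            _ = _ := by rw [e, one_mul]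
        · right; rw [← e]; group
      have h3 : ∀ s ∈ S, s * a * s⁻¹ = t * a * t⁻¹ → s * b * s⁻¹ = t * b * t⁻¹ → ∃ s ∈ S, ∃ c ∈ T ⊓ 𝐂(S), s * c = t :=
        fun s hs f1 f2 => by
          have f3 : ∀ u, s * u * s⁻¹ = t * u * t⁻¹ → Commute u (s⁻¹ * t) := fun u e => by
            calc u * (s⁻¹ * t) = s⁻¹ * (s * u * s⁻¹) * t := by group
              _ = _ := by rw [e]; group
          refine ⟨s, hs, s⁻¹ * t, ⟨T.mul_mem (T.inv_mem (h.le hs)) ht, fun x hx => ?_⟩, by group⟩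
          obtain ⟨i, rfl | rfl⟩ := gen x hx
          · exact (f3 a f1).zpow_left i
          · exact ((f3 a f1).zpow_left i).mul_left (f3 b f2)
      have e6 : b * a * b⁻¹ = z * a := by
        rw [e2, ← e5]; refine inv_eq_of_mul_eq_one_right ?_
        rw [← mul_assoc, ← mul_assoc, mul_assoc (a * a), e5, iz.1]
      have e7 : a * b * a⁻¹ = z * b := by
        calc _ = a * (b * a * b⁻¹)⁻¹ * b := by group
          _ = _ := by rw [e2, inv_inv, e5]
      rcases h2 a ha with f1 | f1 <;> rcases h2 b hb with f2 | f2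
      · exact h3 1 (one_mem _) (by simp [f1]) (by simp [f2])
      · exact h3 a ha (by simp [f1]) (e7.trans f2.symm)
      · exact h3 b hb (e6.trans f1.symm) (by simp [f2])
      · refine h3 (a * b) (mul_mem ha hb) ?_ ?_
        · calc _ = a * (b * a * b⁻¹) * a⁻¹ := by group
            _ = _ := by rw [f1, ← e6, e2]; group
        · calc _ = a * b * a⁻¹ := by group
            _ = _ := e7.trans f2.symm
    · have n0 : S ⊔ T ⊓ 𝐂(S) ⊴ T := IsNormalIn.sup ⟨h.le, h.norm⟩ ((IsNormalIn.refl T).inf_centralizer h.norm)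
      have h1 : T ≤ S ⊔ T ⊓ 𝐂(S) ⊔ der T := h.idx hg (le_sup_left.trans le_sup_left) fun x hx g hy => by
        have := h.fus_mod (fun x => (x : G ⧸ (S ⊔ T ⊓ 𝐂(S) ⊔ der T))) (fun n hn x hx hy => by
          obtain ⟨c, hc, t, ht, rfl⟩ := cen_mul le_rfl (fun g hg ho => H5.mem_centralizer_of_odd_of_quaternion
            ha hb o e0 e1 e2 gen hg ho) (h.syl.of_le h.norm le_top) hn
          have h2 : t * x * t⁻¹ ∈ T := mul_mem (mul_mem ht hx) (inv_mem ht)
          refine QuotientGroup.eq.2 ?_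
          rw [show (c * t * x * (c * t)⁻¹)⁻¹ * x = (c * t * x * (c * t)⁻¹)⁻¹ * (t * x * t⁻¹) * ⁅t, x⁻¹⁆ by
            rw [commutatorElement_def]; group]
          refine mul_mem (mem_sup_left (mem_sup_right (mem_inf.2 ⟨mul_mem (inv_mem hy) h2, ?_⟩)))
            (mem_sup_right (commutator_mem_commutator ht (inv_mem hx)))
          have := mul_mem hc ((conj_cent_iff (h.norm (inv_mem h2))).2 (inv_mem hc))
          convert this using 1
          group)
          (fun s hs x hx => QuotientGroup.eq.2 (mem_sup_left (mem_sup_left (by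
            simpa [mul_assoc] using conj_mem_of_le_normalizer' h.norm hx (inv_mem hs)))))
          (inv_mem hx) (g := g) (by simpa [mul_assoc] using inv_mem hy)
        simpa [mul_assoc] using inv_mem (QuotientGroup.eq.1 this)
      intro t ht
      exact (mem_sup_of_le_normalizer (inf_le_left.trans h.norm)).1
        (Gold.le_of_le_sup_der (have := h.syl.pgroup.isNilpotent; inferInstance) n0 h1 ht)
  have hB : SCl T (T ⊓ 𝐂(S)) := ⟨h.syl, inf_le_left, fun x hx g hy => ⟨hy, (h.fus (fun x => x ∈ 𝐂(S))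
    (fun n hn x _ _ => propext (conj_cent_iff hn)) (fun Q hQ hs y hy x hx => propext (by
      by_cases h1 : IsCyclic (Q ⊓ S : Subgroup G)
      · obtain ⟨c, hc, t, ht, rfl⟩ := cen_mul (L := Y0 S Q) (fun y hy => hy.1)
          (fun g hg => Y0_odd (h.syl.pgroup.to_le hQ) h1 hg) (h.Y0_syl hQ hs) hy
        rw [show c * t * x * (c * t)⁻¹ = c * (t * x * t⁻¹) * c⁻¹ by group,
          ← hc _ (H9.conj_mem_of_mem_normalizer ht.1.2 hx), mul_inv_cancel_right]
        exact conj_cent_iff (h.norm ht.1.1)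
      have h2 : ∀ w ∈ Q, w ∈ 𝐂(S) ↔ w ∈ 𝐂((Q ⊓ S : Subgroup G)) := fun w hw => ⟨fun e => centralizer_anti inf_le_right e, fun e => by
        obtain ⟨s, hs, c, hc, rfl⟩ := hT w (hQ hw)
        exact mul_mem (zc (two s hs (hU.cen h.pg inf_le_right h1 hs
          ((mul_mem_cancel_right (centralizer_anti inf_le_right hc.2)).1 e)))) hc.2⟩
      rw [h2 x hx, h2 _ (H9.conj_mem_of_mem_normalizer hy.1 hx)]
      exact conj_cent_iff (Y0_le hy))) hx.1 hy).symm ▸ hx.2⟩⟩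
  have h1 := pfk (h.map hf) (hB.map hf)
    (by rintro _ ⟨a, ha, rfl⟩ _ ⟨b, hb, rfl⟩; rw [← map_mul, hb.2 a ha, map_mul])
    (by
      rintro _ ⟨a, ha, rfl⟩ ⟨b, hb, e⟩
      exact (QuotientGroup.eq_one_iff _).2 (two a ha (hU.cen h.pg le_rfl hc ha
        ((mul_mem_cancel_left (inv_mem (mem_inf.1 hb).2)).1 (zc (QuotientGroup.eq.1 e))))))
    (by
      rintro _ ⟨t, ht, rfl⟩
      obtain ⟨a, ha, b, hb, rfl⟩ := hT t ht
      exact ⟨_, ⟨a, ha, rfl⟩, _, ⟨b, hb, rfl⟩, (map_mul _ _ _).symm⟩)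
    (top_le_iff.1 (by
      refine (gen_map hg hf (s' := SetLike.coe (normalClosure _)) fun x hx => ?_).ge.trans (normalClosure_le_normal le_rfl)
      have h2 : ∀ i : ℤ, QuotientGroup.mk' (zpowers z) (a ^ i * b) ∈
          normalClosure {a | a ∈ S.map (QuotientGroup.mk' (zpowers z)) ∧ a * a = 1} := fun i =>
        subset_normalClosure ⟨⟨_, mul_mem (zpow_mem ha i) hb, rfl⟩, q1 _ (e4 i ▸ mem_zpowers z)⟩
      obtain ⟨i, rfl | rfl⟩ := gen x hx
      · simpa using mul_mem (h2 i) (inv_mem (h2 0))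
      · exact h2 i))
  rw [Subgroup.map_eq_bot_iff, QuotientGroup.ker_mk'] at h1
  intro t ht
  obtain ⟨s, hs, c, hc, rfl⟩ := hT t ht
  exact mul_mem hs (zpowers_le.2 hz (h1 hc))

theorem SCl.one_gen (h : SCl T S) (hg : normalClosure (S : Set G) = ⊤) (hU : U1 S) : T ≤ S := by
  obtain ⟨n, hn⟩ : ∃ n, Nat.card G = n := ⟨_, rfl⟩
  induction n using Nat.strong_induction_on generalizing G with
  | _ n ih =>
  have key : ∀ (N : Subgroup G) [N.Normal], N ≠ ⊥ → (∀ x ∈ N, x ∈ T → x ∈ S) → U1 (S.map (QuotientGroup.mk' N)) → T ≤ S :=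
    fun N _ h1 h2 h3 t ht => by
      have hf := QuotientGroup.mk'_surjective N
      obtain ⟨s, hs, e⟩ := ih _ (hn ▸ card_quo_lt N h1) (h.map hf) (gen_map hg hf fun x hx => ⟨x, hx, rfl⟩) h3 rfl
        ⟨t, ht, rfl⟩
      exact (mul_mem_cancel_left (inv_mem hs)).1 (h2 _ (QuotientGroup.eq.1 e) (mul_mem (inv_mem (h.le hs)) ht))
  by_cases hO : pPrimeCore 2 G = ⊥
  swap
  · refine key _ hO (fun x h1 h2 => core_two h.syl.pgroup h2 h1 ▸ one_mem _) ?_
    have : ∀ x ∈ S, Invo (QuotientGroup.mk' (pPrimeCore 2 G) x) → Invo x := fun x hx e =>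
      ⟨core_two h.pg (mul_mem hx hx) ((QuotientGroup.eq_one_iff _).1 e.1), fun e' => e.2 (by rw [e', map_one])⟩
    rintro _ ⟨x, hx, rfl⟩ _ ⟨y, hy, rfl⟩ h1 h2
    rw [hU x hx y hy (this x hx h1) (this y hy h2)]
  by_cases h0 : S = ⊥
  · exact le_top.trans (hg.ge.trans (h0 ▸ normalClosure_le_normal le_rfl))
  obtain ⟨z, hz, z1, z2⟩ := H9.exists_involution_of_ne_bot h.pg h0
  have iz : Invo z := ⟨z2, z1⟩
  have cz : z ∈ center G := mem_center_iff.2 fun g => (commutatorElement_eq_one_iff_mul_comm.1 (mem_bot.1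
    (hO ▸ H7.zstar_sylow h.syl.toSylowTop z2 (fun g hg => hU _ (h.cl z hz g hg) z hz (iz.conj g) iz) g))).symm
  by_cases hc : IsCyclic S
  · have := normal_zpowers cz
    exact key _ (zpowers_ne_bot.2 z1) (fun x hx _ => zpowers_le.2 hz hx) fun x hx y hy h1 h2 =>
      H9.eq_of_isCyclic_of_mul_self (H5.isCyclic_map _ hc) hx hy h1.1 h2.1 h1.2 h2.2
  · exact h.quat hg hU hc hz iz cz

theorem SCl.one (h : SCl T S) (hU : U1 S) : S = T ⊓ normalClosure (S : Set G) :=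
  le_antisymm (le_inf h.le le_normalClosure) fun x hx =>
    (h.sub le_normalClosure).one_gen h.sub_gen (fun x hx y hy h1 h2 => Subtype.ext (hU _ hx _ hy
      ⟨congrArg Subtype.val h1.1, fun e => h1.2 (Subtype.ext e)⟩ ⟨congrArg Subtype.val h2.1, fun e => h2.2 (Subtype.ext e)⟩))
      (show (⟨x, hx.2⟩ : normalClosure (S : Set G)) ∈ T.subgroupOf _ from hx.1)

end Cfsg.Agent.H8.SQ
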